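import Groth.Agent.Lib.HomShExact13.OverExact
import Groth.Prelude.Def_CGrpSh2
import Mathlib.CategoryTheory.Abelian.Refinements
import Mathlib.CategoryTheory.Preadditive.Yoneda.Limits
import Mathlib.CategoryTheory.Abelian.Injective.Resolution

/-!
# Left exactness of the internal Hom of abelian sheaves, and double duality in short exact sequences
-/

set_option autoImplicit false
set_option backward.isDefEq.respectTransparency false

universe u

open CategoryTheory CategoryTheory.Limits Opposite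

namespace GrothLib.HomShExact13

variable {C : Type (u + 1)} [Category.{u} C] {J : GrothendieckTopology C}


variable [HasSheafify J AddCommGrpCat.{u + 1}]

/-- `𝓗om(-, M)`. -/
noncomputable abbrev homInto (M : (Sheaf J AddCommGrpCat.{u + 1})) : ((Sheaf J AddCommGrpCat.{u + 1}))ᵒᵖ ⥤ (Sheaf J AddCommGrpCat.{u + 1}) := (HomSh.homShBi J).flip.obj M

theorem preservesFiniteLimits_homInto (M : (Sheaf J AddCommGrpCat.{u + 1})) : PreservesFiniteLimits (homInto M) := by
  refine ⟨fun K _ _ => ?_⟩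
  suffices PreservesLimitsOfShape K (homInto M ⋙ sheafToPresheaf J AddCommGrpCat.{u + 1}) from
    preservesLimitsOfShape_of_reflects_of_preserves (homInto M) (sheafToPresheaf J AddCommGrpCat.{u + 1})
  refine preservesLimitsOfShape_of_evaluation _ K fun X => ?_
  haveI : (J.overPullback AddCommGrpCat.{u + 1} X.unop).IsLeftAdjoint :=
    ((Over.forget X.unop).sheafAdjunctionCocontinuous AddCommGrpCat.{u + 1} (J.over X.unop) J).isLeftAdjoint
  let e : (J.overPullback AddCommGrpCat.{u + 1} X.unop).op ⋙ preadditiveYoneda.obj (M.over X.unop) ≅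
      (homInto M ⋙ sheafToPresheaf J AddCommGrpCat.{u + 1}) ⋙ (evaluation Cᵒᵖ AddCommGrpCat.{u + 1}).obj X :=
    NatIso.ofComponents (fun F => Iso.refl _) fun α => AddCommGrpCat.ext fun φ => by
      change (J.overPullback _ X.unop).map α.unop ≫ φ =
        (J.overPullback _ X.unop).map α.unop ≫ φ ≫ (J.overPullback _ X.unop).map (𝟙 M)
      rw [CategoryTheory.Functor.map_id]
      exact (congrArg ((J.overPullback _ X.unop).map α.unop ≫ ·) (Category.comp_id _)).symm
  haveI := preservesLimitsOfShape_op (C := (Sheaf J AddCommGrpCat.{u + 1})) (D := Sheaf (J.over X.unop) AddCommGrpCat.{u + 1}) K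
    (J.overPullback AddCommGrpCat.{u + 1} X.unop)
  exact preservesLimitsOfShape_of_natIso e

theorem preservesFiniteLimits_homShFunctor (F : (Sheaf J AddCommGrpCat.{u + 1})) : PreservesFiniteLimits (HomSh.homShFunctor J F) := by
  refine ⟨fun K _ _ => ?_⟩
  suffices PreservesLimitsOfShape K (HomSh.homShFunctor J F ⋙ sheafToPresheaf J AddCommGrpCat.{u + 1}) from
    preservesLimitsOfShape_of_reflects_of_preserves (HomSh.homShFunctor J F) (sheafToPresheaf J AddCommGrpCat.{u + 1})
  refine preservesLimitsOfShape_of_evaluation _ K fun X => ?_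
  haveI : (J.overPullback AddCommGrpCat.{u + 1} X.unop).IsRightAdjoint :=
    ((Over.forget X.unop).sheafAdjunctionContinuous AddCommGrpCat.{u + 1} (J.over X.unop) J).isRightAdjoint
  let e : J.overPullback AddCommGrpCat.{u + 1} X.unop ⋙ preadditiveCoyoneda.obj (op (F.over X.unop)) ≅
      (HomSh.homShFunctor J F ⋙ sheafToPresheaf J AddCommGrpCat.{u + 1}) ⋙
        (evaluation Cᵒᵖ AddCommGrpCat.{u + 1}).obj X :=
    NatIso.ofComponents (fun G => Iso.refl _) fun β => AddCommGrpCat.ext fun φ => by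
      change φ ≫ (J.overPullback _ X.unop).map β =
        (J.overPullback _ X.unop).map (𝟙 F) ≫ φ ≫ (J.overPullback _ X.unop).map β
      rw [CategoryTheory.Functor.map_id]
      exact (Category.id_comp _).symm
  exact preservesLimitsOfShape_of_natIso e

theorem mono_homShMap_left {F F' : (Sheaf J AddCommGrpCat.{u + 1})} (g : F' ⟶ F) [Epi g] (M : (Sheaf J AddCommGrpCat.{u + 1})) : Mono (HomSh.homShMap J g (𝟙 M)) :=
  haveI := preservesFiniteLimits_homInto M
  inferInstanceAs (Mono ((homInto M).map g.op))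

theorem exact_homShMap_left {S : ShortComplex (Sheaf J AddCommGrpCat.{u + 1})} (hS : S.ShortExact) (M : (Sheaf J AddCommGrpCat.{u + 1})) :
    (S.op.map (homInto M)).Exact :=
  haveI := preservesFiniteLimits_homInto M
  haveI := hS.epi_g
  hS.exact.op.map_of_mono_of_preservesKernel _ (inferInstanceAs (Mono S.g.op)) inferInstance

theorem mono_homShMap_right (F : (Sheaf J AddCommGrpCat.{u + 1})) {M M' : (Sheaf J AddCommGrpCat.{u + 1})} (β : M ⟶ M') [Mono β] : Mono (HomSh.homShMap J (𝟙 F) β) :=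
  haveI := preservesFiniteLimits_homShFunctor F
  inferInstanceAs (Mono ((HomSh.homShFunctor J F).map β))

theorem exact_homShMap_right (F : (Sheaf J AddCommGrpCat.{u + 1})) {S : ShortComplex (Sheaf J AddCommGrpCat.{u + 1})} (hS : S.Exact) (hf : Mono S.f) :
    (S.map (HomSh.homShFunctor J F)).Exact :=
  haveI := preservesFiniteLimits_homShFunctor F
  hS.map_of_mono_of_preservesKernel _ hf inferInstance

theorem epi_homShMap_injective {F F' : (Sheaf J AddCommGrpCat.{u + 1})} (α : F' ⟶ F) [Mono α] (I : (Sheaf J AddCommGrpCat.{u + 1})) [Injective I] :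
    Epi (HomSh.homShMap J α (𝟙 I)) := by
  haveI : ∀ X : Cᵒᵖ, Epi ((HomSh.homShMap J α (𝟙 I)).hom.app X) := fun X => by
    rw [AddCommGrpCat.epi_iff_surjective]
    intro φ
    haveI : Injective (I.over X.unop) := injective_over X.unop J I
    haveI : (J.overPullback AddCommGrpCat.{u + 1} X.unop).IsRightAdjoint :=
      ((Over.forget X.unop).sheafAdjunctionContinuous AddCommGrpCat.{u + 1} (J.over X.unop) J).isRightAdjoint
    let φ' : F'.over X.unop ⟶ I.over X.unop := φ
    refine ⟨Injective.factorThru φ' ((J.overPullback _ X.unop).map α), ?_⟩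
    change (J.overPullback _ X.unop).map α ≫ Injective.factorThru φ' ((J.overPullback _ X.unop).map α) ≫
      (J.overPullback _ X.unop).map (𝟙 I) = φ'
    rw [CategoryTheory.Functor.map_id]
    exact (congrArg (_ ≫ ·) (Category.comp_id _)).trans (Injective.comp_factorThru _ _)
  have h : Epi ((sheafToPresheaf J AddCommGrpCat.{u + 1}).map (HomSh.homShMap J α (𝟙 I))) :=
    @NatTrans.epi_of_epi_app _ _ _ _ _ _ _ this
  exact (sheafToPresheaf J AddCommGrpCat.{u + 1}).epi_of_epi_map h

theorem homShMap_exchange {F F' M M' : (Sheaf J AddCommGrpCat.{u + 1})} (α : F' ⟶ F) (β : M ⟶ M') :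
    HomSh.homShMap J α (𝟙 M) ≫ HomSh.homShMap J (𝟙 F') β =
      HomSh.homShMap J (𝟙 F) β ≫ HomSh.homShMap J α (𝟙 M') := by
  rw [← HomSh.homShMap_comp, ← HomSh.homShMap_comp, Category.id_comp, Category.comp_id,
    Category.comp_id, Category.id_comp]

theorem homShMap_comp_zero {F M M' M'' : (Sheaf J AddCommGrpCat.{u + 1})} (β : M ⟶ M') (β' : M' ⟶ M'') (w : β ≫ β' = 0) :
    HomSh.homShMap J (𝟙 F) β ≫ HomSh.homShMap J (𝟙 F) β' = 0 := by
  change (HomSh.homShFunctor J F).map β ≫ (HomSh.homShFunctor J F).map β' = 0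
  rw [← Functor.map_comp, w, Functor.map_zero]

variable [HasInjectiveResolutions ((Sheaf J AddCommGrpCat.{u + 1}))]

theorem epi_homShMap_of_isZero_rightDerived {S : ShortComplex (Sheaf J AddCommGrpCat.{u + 1})} (hS : S.ShortExact) (M : (Sheaf J AddCommGrpCat.{u + 1}))
    (h : IsZero (((HomSh.homShFunctor J S.X₃).rightDerived 1).obj M)) : Epi (HomSh.homShMap J S.f (𝟙 M)) := by
  let P : InjectiveResolution M := injectiveResolution M
  haveI := hS.mono_f
  haveI := hS.epi_g
  have hF3 : (ShortComplex.mk (HomSh.homShMap J (𝟙 S.X₃) (P.cocomplex.d 0 1))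
      (HomSh.homShMap J (𝟙 S.X₃) (P.cocomplex.d 1 2)) (by
        change (HomSh.homShFunctor J S.X₃).map _ ≫ (HomSh.homShFunctor J S.X₃).map _ = 0
        rw [← Functor.map_comp, P.cocomplex.d_comp_d, Functor.map_zero])).Exact := by
    have h1 := h.of_iso (P.isoRightDerivedObj (HomSh.homShFunctor J S.X₃) 1).symm
    rw [HomologicalComplex.homologyFunctor_obj, ← HomologicalComplex.exactAt_iff_isZero_homology,
      HomologicalComplex.exactAt_iff' _ 0 1 2 (by simp) (by simp)] at h1
    exact h1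
  have hι : (ShortComplex.mk _ _ P.ι_f_zero_comp_complex_d).Exact :=
    ShortComplex.exact_of_f_is_kernel _ P.isLimitKernelFork
  have hF2 := exact_homShMap_right S.X₂ hι inferInstance
  haveI := mono_homShMap_right S.X₁ (P.ι.f 0)
  haveI := mono_homShMap_left S.g (P.cocomplex.X 2)
  haveI := epi_homShMap_injective S.f (P.cocomplex.X 0)
  rw [epi_iff_surjective_up_to_refinements]
  intro A a
  obtain ⟨A₁, π₁, hπ₁, b, hb⟩ := surjective_up_to_refinements_of_epi
    (HomSh.homShMap J S.f (𝟙 (P.cocomplex.X 0))) (a ≫ HomSh.homShMap J (𝟙 S.X₁) (P.ι.f 0))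
  have hc : (b ≫ HomSh.homShMap J (𝟙 S.X₂) (P.cocomplex.d 0 1)) ≫
      HomSh.homShMap J S.f (𝟙 (P.cocomplex.X 1)) = 0 := by
    rw [Category.assoc, ← homShMap_exchange, reassoc_of% hb.symm, homShMap_comp_zero _ _ P.ι_f_zero_comp_complex_d,
      comp_zero, comp_zero]
  haveI := mono_homShMap_left S.g (P.cocomplex.X 1)
  haveI : Mono (S.op.map (homInto (P.cocomplex.X 1))).f := mono_homShMap_left S.g (P.cocomplex.X 1)
  let e : A₁ ⟶ HomSh.homSh J S.X₃ (P.cocomplex.X 1) :=
    (exact_homShMap_left hS (P.cocomplex.X 1)).lift _ hc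
  have he : e ≫ HomSh.homShMap J S.g (𝟙 (P.cocomplex.X 1)) =
      b ≫ HomSh.homShMap J (𝟙 S.X₂) (P.cocomplex.d 0 1) :=
    (exact_homShMap_left hS (P.cocomplex.X 1)).lift_f _ hc
  have hd : e ≫ HomSh.homShMap J (𝟙 S.X₃) (P.cocomplex.d 1 2) = 0 := by
    rw [← cancel_mono (HomSh.homShMap J S.g (𝟙 (P.cocomplex.X 2))), zero_comp, Category.assoc,
      ← homShMap_exchange, reassoc_of% he, homShMap_comp_zero _ _ (P.cocomplex.d_comp_d 0 1 2), comp_zero]
  obtain ⟨A₂, π₂, hπ₂, x, hx⟩ := hF3.exact_up_to_refinements e hd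
  dsimp only at hx
  let b' : A₂ ⟶ HomSh.homSh J S.X₂ (P.cocomplex.X 0) :=
    π₂ ≫ b - x ≫ HomSh.homShMap J S.g (𝟙 (P.cocomplex.X 0))
  have hb' : b' ≫ HomSh.homShMap J (𝟙 S.X₂) (P.cocomplex.d 0 1) = 0 := by
    rw [Preadditive.sub_comp, Category.assoc, Category.assoc, homShMap_exchange, ← reassoc_of% hx, he, sub_self]
  haveI : Mono ((ShortComplex.mk _ _ P.ι_f_zero_comp_complex_d).map (HomSh.homShFunctor J S.X₂)).f :=
    mono_homShMap_right S.X₂ (P.ι.f 0)
  refine ⟨A₂, π₂ ≫ π₁, epi_comp _ _, hF2.lift b' hb', ?_⟩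
  rw [← cancel_mono (HomSh.homShMap J (𝟙 S.X₁) (P.ι.f 0))]
  have hm : hF2.lift b' hb' ≫ HomSh.homShMap J (𝟙 S.X₂) (P.ι.f 0) = b' := hF2.lift_f b' hb'
  have hz : HomSh.homShMap J S.g (𝟙 (P.cocomplex.X 0)) ≫ HomSh.homShMap J S.f (𝟙 (P.cocomplex.X 0)) = 0 :=
    (S.op.map (homInto (P.cocomplex.X 0))).zero
  simp only [Category.assoc]
  rw [hb, homShMap_exchange, reassoc_of% hm, Preadditive.sub_comp, Category.assoc, Category.assoc, hz, comp_zero,
    sub_zero]

omit [HasSheafify J AddCommGrpCat.{u + 1}] [HasInjectiveResolutions ((Sheaf J AddCommGrpCat.{u + 1}))] in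
theorem bidualMap_naturality {F G : (Sheaf J AddCommGrpCat.{u + 1})} (α : F ⟶ G) (M : (Sheaf J AddCommGrpCat.{u + 1})) :
    α ≫ HomSh.bidualMap J G M =
      HomSh.bidualMap J F M ≫ HomSh.homShMap J (HomSh.homShMap J α (𝟙 M)) (𝟙 M) := by
  refine Sheaf.hom_ext (NatTrans.ext (funext fun X => AddCommGrpCat.ext fun s => ?_))
  refine Sheaf.hom_ext (NatTrans.ext (funext fun U => AddCommGrpCat.ext fun φ => ?_))
  change HomSh.ev J φ (G.obj.map (unop U).hom.op (α.hom.app X s)) =
    HomSh.ev J φ (α.hom.app (op (unop U).left) (F.obj.map (unop U).hom.op s))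
  exact congrArg (HomSh.ev J φ) (ConcreteCategory.congr_hom (α.hom.naturality (unop U).hom.op) s).symm

/-- Double duality is an isomorphism on the middle term if it is on the outer ones and the first Ext sheaf of the
quotient vanishes. -/
theorem isIso_bidualMap_of_shortExact {S : ShortComplex (Sheaf J AddCommGrpCat.{u + 1})} (hS : S.ShortExact) (M : (Sheaf J AddCommGrpCat.{u + 1}))
    (h : IsZero ((HomSh.extSh J S.X₃ 1).obj M)) [IsIso (HomSh.bidualMap J S.X₁ M)]
    [IsIso (HomSh.bidualMap J S.X₃ M)] : IsIso (HomSh.bidualMap J S.X₂ M) := by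
  rw [HomSh.extSh_def] at h
  haveI := epi_homShMap_of_isZero_rightDerived hS M h
  haveI := hS.mono_f
  haveI := hS.epi_g
  have hT : (S.op.map (homInto M)).ShortExact :=
    { exact := exact_homShMap_left hS M, mono_f := mono_homShMap_left S.g M, epi_g := ‹_› }
  let T := (S.op.map (homInto M)).op.map (homInto M)
  let φ : S ⟶ T :=
    { τ₁ := HomSh.bidualMap J S.X₁ M
      τ₂ := HomSh.bidualMap J S.X₂ M
      τ₃ := HomSh.bidualMap J S.X₃ M
      comm₁₂ := (bidualMap_naturality S.f M).symm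
      comm₂₃ := (bidualMap_naturality S.g M).symm }
  haveI : Epi (φ.τ₂ ≫ T.g) := by
    rw [φ.comm₂₃]
    exact epi_comp _ _
  have hT' : T.ShortExact :=
    { exact := exact_homShMap_left hT M
      mono_f := @mono_homShMap_left _ _ _ _ _ _ (S.op.map (homInto M)).g hT.epi_g M
      epi_g := epi_of_epi φ.τ₂ T.g }
  exact ShortComplex.isIso₂_of_shortExact_of_isIso₁₃ φ hS hT'

end GrothLib.HomShExact13
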