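import Mathlib.CategoryTheory.Functor.Flat
import Mathlib.CategoryTheory.Limits.Final
import Mathlib.CategoryTheory.Sites.Pullback
import Mathlib.CategoryTheory.Sites.Over
import Mathlib.CategoryTheory.Sites.LeftExact
import Mathlib.CategoryTheory.Sites.CoverLifting
import Mathlib.Algebra.Category.Grp.AB
import Mathlib.CategoryTheory.Preadditive.Injective.Basic

/-!
# Restriction to a slice of a large site is exact and preserves injectives

The same argument as `Groth.Agent.Lib.SheafCoh.OverLan`, for sites with objects one universe up.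
-/

universe u

open CategoryTheory Limits Opposite

namespace GrothLib.HomShExact13

set_option backward.defeqAttrib.useBackward true in
set_option backward.isDefEq.respectTransparency false in
/-- Evaluation of a left Kan extension as a colimit, without smallness assumptions. -/
noncomputable def lanEvalIso {A : Type*} [Category A] {B : Type*} [Category B] {E : Type*} [Category E]
    (F : A ⥤ B) (X : B)
    [∀ X : B, HasColimitsOfShape (CostructuredArrow F X) E] :
    F.lan ⋙ (evaluation B E).obj X ≅
      (Functor.whiskeringLeft _ _ E).obj (CostructuredArrow.proj F X) ⋙ colim :=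
  NatIso.ofComponents (fun G =>
    IsColimit.coconePointUniqueUpToIso
    (Functor.isPointwiseLeftKanExtensionLeftKanExtensionUnit F G X)
    (colimit.isColimit _)) (fun {G₁ G₂} φ => by
      apply (Functor.isPointwiseLeftKanExtensionLeftKanExtensionUnit F G₁ X).hom_ext
      intro T
      have h₁ := fun (G : A ⥤ E) => IsColimit.comp_coconePointUniqueUpToIso_hom
        (Functor.isPointwiseLeftKanExtensionLeftKanExtensionUnit F G X) (colimit.isColimit _) T
      have h₂ := congr_app (F.lanUnit.naturality φ) T.left
      dsimp at h₁ h₂ ⊢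
      simp only [Category.assoc] at h₁ ⊢
      simp only [Functor.lan, Functor.lanUnit] at h₂ ⊢
      rw [reassoc_of% h₁, NatTrans.naturality_assoc, ← reassoc_of% h₂, h₁,
        ι_colimMap, Functor.whiskerLeft_app]
      rfl)


variable {C : Type (u + 1)} [Category.{u} C] (U : C)

/-- The maps to `U` inside the costructured arrows of `(Over.forget U).op`. -/
noncomputable def overArrows (W : Cᵒᵖ) :
    Discrete (W.unop ⟶ U) ⥤ CostructuredArrow (Over.forget U).op W :=
  Discrete.functor fun f => CostructuredArrow.mk (Y := op (Over.mk f)) (𝟙 W)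

theorem final_overArrows (W : Cᵒᵖ) : (overArrows U W).Final := by
  refine ⟨fun d => ?_⟩
  let g : W.unop ⟶ d.left.unop.left := d.hom.unop
  let f₀ : W.unop ⟶ U := g ≫ d.left.unop.hom
  let h₀ : d ⟶ (overArrows U W).obj ⟨f₀⟩ :=
    CostructuredArrow.homMk (Over.homMk g : Over.mk f₀ ⟶ d.left.unop).op (by
      change g.op ≫ 𝟙 W = d.hom
      rw [Category.comp_id]
      rfl)
  have hne : Nonempty (StructuredArrow d (overArrows U W)) := ⟨StructuredArrow.mk h₀⟩
  refine zigzag_isConnected fun a b => ?_
  suffices a = b by subst this; exact Relation.ReflTransGen.refl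
  have key : ∀ a : StructuredArrow d (overArrows U W), a = StructuredArrow.mk h₀ := by
    intro a
    obtain ⟨⟨⟩, ⟨f⟩, φ⟩ := a
    have hw : φ.left.unop.left = g := by
      have := CostructuredArrow.w φ
      apply_fun Quiver.Hom.unop at this
      exact (Category.id_comp _).symm.trans this
    have hf : f = f₀ := by
      have := Over.w φ.left.unop
      rw [hw] at this
      exact this.symm
    subst hf
    have : φ = h₀ := CostructuredArrow.hom_ext _ _ (Quiver.Hom.unop_inj (Over.OverMorphism.ext hw))
    subst this
    rfl
  rw [key a, key b]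

/-- Left Kan extension along `Over.forget U` is exact on abelian presheaves. -/
theorem preservesFiniteLimits_lan_forget :
    PreservesFiniteLimits ((Over.forget U).op.lan :
      ((Over U)ᵒᵖ ⥤ AddCommGrpCat.{u + 1}) ⥤ Cᵒᵖ ⥤ AddCommGrpCat.{u + 1}) := by
  refine ⟨fun K _ _ => ?_⟩
  refine preservesLimitsOfShape_of_evaluation _ K fun W => ?_
  have := final_overArrows U W
  have : HasColimitsOfShape (Discrete (W.unop ⟶ U)) AddCommGrpCat.{u + 1} := inferInstance
  let e : (Over.forget U).op.lan ⋙ (evaluation Cᵒᵖ AddCommGrpCat.{u + 1}).obj W ≅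
      (Functor.whiskeringLeft _ _ AddCommGrpCat.{u + 1}).obj
          (overArrows U W ⋙ CostructuredArrow.proj (Over.forget U).op W) ⋙ colim :=
    lanEvalIso (E := AddCommGrpCat.{u + 1}) (Over.forget U).op W ≪≫
      Functor.isoWhiskerLeft ((Functor.whiskeringLeft _ _ AddCommGrpCat.{u + 1}).obj
        (CostructuredArrow.proj (Over.forget U).op W))
        (Functor.Final.colimIso (E := AddCommGrpCat.{u + 1}) (overArrows U W)).symm
  have : HasExactColimitsOfShape (Discrete (W.unop ⟶ U)) AddCommGrpCat.{u + 1} :=
    HasExactColimitsOfShape.of_domain_equivalence AddCommGrpCat.{u + 1}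
      (Discrete.equivalence (Equiv.ulift.{u + 1} : ULift.{u + 1} (W.unop ⟶ U) ≃ (W.unop ⟶ U)))
  exact preservesLimitsOfShape_of_natIso e.symm

theorem injective_overForget_comp (P : Cᵒᵖ ⥤ AddCommGrpCat.{u + 1}) [hP : Injective P] :
    Injective ((Over.forget U).op ⋙ P) :=
  have := preservesFiniteLimits_lan_forget U
  have : ((Over.forget U).op.lan :
      ((Over U)ᵒᵖ ⥤ AddCommGrpCat.{u + 1}) ⥤ _).PreservesMonomorphisms :=
    preservesMonomorphisms_of_preservesLimitsOfShape _
  @Injective.injective_of_adjoint _ _ _ _ _ _ this
    ((Over.forget U).op.lanAdjunction AddCommGrpCat.{u + 1}) P hP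

variable (J : GrothendieckTopology C) [HasSheafify J AddCommGrpCat.{u + 1}]

/-- Extension by zero of abelian sheaves from a slice is exact. -/
theorem preservesFiniteLimits_sheafPullback_forget :
    PreservesFiniteLimits ((Over.forget U).sheafPullback AddCommGrpCat.{u + 1} (J.over U) J) :=
  have := preservesFiniteLimits_lan_forget U
  have : PreservesFiniteLimits (Functor.sheafPullbackConstruction.sheafPullback (Over.forget U)
      AddCommGrpCat.{u + 1} (J.over U) J) :=
    have : PreservesFiniteLimits ((Over.forget U).op.lan ⋙ presheafToSheaf J AddCommGrpCat.{u + 1}) :=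
      comp_preservesFiniteLimits _ _
    comp_preservesFiniteLimits (sheafToPresheaf _ _) _
  preservesFiniteLimits_of_natIso
    (Functor.sheafPullbackConstruction.sheafPullbackIso (Over.forget U) AddCommGrpCat.{u + 1} (J.over U) J).symm

theorem injective_over (I : Sheaf J AddCommGrpCat.{u + 1}) [hI : Injective I] :
    Injective (((Over.forget U).sheafPushforwardContinuous AddCommGrpCat.{u + 1} (J.over U) J).obj I) :=
  have := preservesFiniteLimits_sheafPullback_forget U J
  have : ((Over.forget U).sheafPullback AddCommGrpCat.{u + 1} (J.over U) J).PreservesMonomorphisms :=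
    preservesMonomorphisms_of_preservesLimitsOfShape _
  @Injective.injective_of_adjoint _ _ _ _ _ _ this
    ((Over.forget U).sheafAdjunctionContinuous AddCommGrpCat.{u + 1} (J.over U) J) I hI

/-- Restriction of abelian sheaves to a slice preserves epimorphisms. -/
theorem epi_over {A B : Sheaf J AddCommGrpCat.{u + 1}} (g : A ⟶ B) [Epi g] :
    Epi (((Over.forget U).sheafPushforwardContinuous AddCommGrpCat.{u + 1} (J.over U) J).map g) :=
  haveI : ((Over.forget U).sheafPushforwardContinuous AddCommGrpCat.{u + 1} (J.over U) J).IsLeftAdjoint :=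
    ((Over.forget U).sheafAdjunctionCocontinuous AddCommGrpCat.{u + 1} (J.over U) J).isLeftAdjoint
  inferInstance

end GrothLib.HomShExact13
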